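/-
The two-part of the multiplier of Co₁.

Main results (namespace `Cfsg.Agent.MultiplierCoOne`): `lifts_not_commute`.
-/
import Cfsg.Agent.Lib.MultiplierCoOne.TwoLift
import Cfsg.Agent.S2038

set_option autoImplicit false
set_option maxRecDepth 100000

open scoped Pointwise symmDiff commutatorElement
open Cfsg MulAction

namespace Cfsg.Agent.MultiplierCoOne

open Cfsg.Agent.Golay Cfsg.Agent.Leech

/-- The product of the values at the selected members of a list. -/
def prodSel {Γ : Type} [Group Γ] (f : ℕ → Γ) : List ℕ → ℕ → Γ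
  | [], _ => 1
  | g :: gs, x => (if x % 2 = 1 then f g else 1) * prodSel f gs (x / 2)

section

variable {Γ : Type} [Group Γ]

theorem commute_prodSel {f : ℕ → Γ} {u : Γ} : ∀ (gs : List ℕ), (∀ g ∈ gs, Commute u (f g)) →
    ∀ x, Commute u (prodSel f gs x)
  | [], _, _ => Commute.one_right u
  | g :: gs, h, x => by
    rw [prodSel]
    refine Commute.mul_right ?_ (commute_prodSel gs (fun a ha => h a (List.mem_cons_of_mem _ ha)) _)
    split_ifs
    · exact h g List.mem_cons_self
    · exact Commute.one_right u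

theorem prodSel_zero (f : ℕ → Γ) : ∀ gs : List ℕ, prodSel f gs 0 = 1
  | [] => rfl
  | g :: gs => by simp [prodSel, prodSel_zero f gs]

theorem prodSel_xor {f : ℕ → Γ} : ∀ (gs : List ℕ), (∀ a ∈ gs, ∀ b ∈ gs, Commute (f a) (f b)) →
    (∀ a ∈ gs, f a * f a = 1) → ∀ x y, prodSel f gs (x ^^^ y) = prodSel f gs x * prodSel f gs y
  | [], _, _, _, _ => (one_mul _).symm
  | g :: gs, hc, h2, x, y => by
    have ih := prodSel_xor gs (fun a ha b hb => hc a (List.mem_cons_of_mem _ ha) b (List.mem_cons_of_mem _ hb))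
      (fun a ha => h2 a (List.mem_cons_of_mem _ ha)) (x / 2) (y / 2)
    have hxy : (x ^^^ y) % 2 = (x % 2) ^^^ (y % 2) := by
      simpa using Nat.xor_mod_two_pow (a := x) (b := y) (n := 1)
    have hg : Commute (prodSel f gs (x / 2)) (f g) :=
      (commute_prodSel gs (fun a ha => hc g List.mem_cons_self a (List.mem_cons_of_mem _ ha)) _).symm
    have hgg := h2 g List.mem_cons_self
    simp only [prodSel, Nat.xor_div_two, ih, hxy]
    rcases Nat.mod_two_eq_zero_or_one x with hx | hx <;> rcases Nat.mod_two_eq_zero_or_one y with hy | hy <;>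
      simp [hx, hy, mul_assoc, hg.left_comm, ← mul_assoc (f g) (f g), hgg]

theorem prodSel_two_pow (f : ℕ → Γ) : ∀ (gs : List ℕ) (i : ℕ), i < gs.length →
    prodSel f gs (2 ^ i) = f (gs.getD i 0)
  | [], i, h => absurd h (Nat.not_lt_zero i)
  | g :: gs, 0, _ => by simp [prodSel, prodSel_zero]
  | g :: gs, i + 1, h => by
    have e : 2 ^ (i + 1) / 2 = 2 ^ i := by rw [pow_succ]; omega
    have e' : ¬ 2 ^ (i + 1) % 2 = 1 := by rw [pow_succ]; omega
    rw [prodSel, if_neg e', one_mul, e, prodSel_two_pow f gs i (by simpa using h), List.getD_cons_succ]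

theorem prodSel_mem {f : ℕ → Γ} {H : Subgroup Γ} : ∀ (gs : List ℕ), (∀ g ∈ gs, f g ∈ H) →
    ∀ x, prodSel f gs x ∈ H
  | [], _, _ => one_mem H
  | g :: gs, h, x => by
    refine mul_mem ?_ (prodSel_mem gs (fun a ha => h a (List.mem_cons_of_mem _ ha)) _)
    split_ifs
    · exact h g List.mem_cons_self
    · exact one_mem H

end

theorem rows_mod : ∀ i < 12, rows.getD i 0 % 4096 = 2 ^ i := by decide +kernel

theorem enc_top : enc 4095 = 16777215 := by decide +kernel

theorem pts_enc_xor_top (m : ℕ) : pts (enc (m ^^^ 4095)) = (pts (enc m))ᶜ := by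
  rw [enc_xor, enc_top, pts_xor, pts_full]
  ext p
  simp [Finset.mem_symmDiff]

section

variable {Γ : Type} [Group Γ] [Finite Γ] {σ : Γ →* Spor.Co1}

/-- The lifts of a sign change and of a permutation exchanging its halves do not commute. -/
theorem lifts_not_commute (hσ : Cfsg.IsStemExtension σ) (hK : Nat.card σ.ker = 2)
    {D : Finset GolayPt} (hD : D ∈ supports (golayCode : Set (GolayPt → ZMod 2))) {g : M24}
    (hg : (g : Equiv.Perm GolayPt) • D = Dᶜ) {a b : Γ} (ha : σ a = sE D) (hb : σ b = pE g) :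
    a * b ≠ b * a := by
  intro hab
  obtain ⟨f, hfσ, hfc, hcomm, hsq, hadd⟩ := exists_octad_lift hσ hK
  obtain ⟨F, hF⟩ : ∃ F : ℕ → Γ, F = prodSel (fun r => f (pts r)) rows := ⟨_, rfl⟩
  have hFxor : ∀ x y, F (x ^^^ y) = F x * F y := fun x y => by
    rw [hF]
    exact prodSel_xor rows (fun u hu v hv => hcomm _ (rows_octads u hu) _ (rows_octads v hv))
      (fun u hu => hsq _ (rows_octads u hu)) x y
  have hF0 : F 0 = 1 := by rw [hF]; exact prodSel_zero _ _
  -- every lift of an octad is one of the products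
  have hfF : ∀ o ∈ octads, f o = F (maskOf o % 4096) := by
    intro o ho
    have h := octad_tree_induction (P := fun m => f (pts m) = F (m % 4096)) ?_ ?_ ho
    · simpa using h
    · intro i hi
      show f (pts (rows.getD i 0)) = F (rows.getD i 0 % 4096)
      rw [rows_mod i hi, hF, prodSel_two_pow _ _ _ (by simpa [rows] using hi)]
    · intro u v hu hv h4 _ _ iu iv
      show f (pts (u ^^^ v)) = F ((u ^^^ v) % 4096)
      rw [pts_xor, hadd _ hu _ hv h4, iu, iv, show (4096 : ℕ) = 2 ^ 12 from rfl, Nat.xor_mod_two_pow, hFxor]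
  -- the images
  have hσF : ∀ m, σ (F m) = sE (pts (enc m)) := by
    suffices key : ∀ gs : List ℕ, (∀ r ∈ gs, r ∈ rows) → ∀ m,
        pts (encAux gs m) ∈ supports (golayCode : Set (GolayPt → ZMod 2)) ∧
          σ (prodSel (fun r => f (pts r)) gs m) = sE (pts (encAux gs m)) by
      intro m; rw [hF]; exact (key rows (fun _ h => h) m).2
    intro gs
    induction gs with
    | nil => intro _ m; simp [encAux, prodSel, Golay.pts_zero, Golay.empty_mem, sE_empty]
    | cons r gs ih =>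
      intro hr m
      have hro := rows_octads r (hr r List.mem_cons_self)
      obtain ⟨h1, h2⟩ := ih (fun u hu => hr u (List.mem_cons_of_mem _ hu)) (m / 2)
      simp only [encAux, prodSel, pts_xor, map_mul, h2]
      split_ifs
      · exact ⟨Golay.symmDiff_mem hro.1 h1, by rw [hfσ _ hro, sE_mul hro.1 h1]⟩
      · simp [Golay.pts_zero, h1, ← Finset.bot_eq_empty]
  -- equivariance
  have hconj : ∀ (h : M24) (x : Γ), σ x = pE h → ∀ m, ∃ m' < 4096,
      pts (enc m') = (h : Equiv.Perm GolayPt) • pts (enc m) ∧ x * F m * x⁻¹ = F m' := by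
    intro h x hx
    suffices key : ∀ gs : List ℕ, (∀ r ∈ gs, r ∈ rows) → ∀ m, ∃ m' < 4096,
        pts (enc m') = (h : Equiv.Perm GolayPt) • pts (encAux gs m) ∧
          x * prodSel (fun r => f (pts r)) gs m * x⁻¹ = F m' by
      intro m
      obtain ⟨m', h1, h2, h3⟩ := key rows (fun _ e => e) m
      exact ⟨m', h1, h2, by rw [← h3, hF]⟩
    intro gs
    induction gs with
    | nil => intro _ m; exact ⟨0, by norm_num, by simp [encAux, enc_zero, Golay.pts_zero], by simp [prodSel, hF0]⟩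
    | cons r gs ih =>
      intro hr m
      obtain ⟨m', h1, h2, h3⟩ := ih (fun u hu => hr u (List.mem_cons_of_mem _ hu)) (m / 2)
      by_cases hm : m % 2 = 1
      · have hro := rows_octads r (hr r List.mem_cons_self)
        have hgo := Golay.smul_mem_octads h.2 hro
        obtain ⟨k, hk, hke⟩ : ∃ k < 4096, k = maskOf ((h : Equiv.Perm GolayPt) • pts r) % 4096 :=
          ⟨_, Nat.mod_lt _ (by norm_num), rfl⟩
        have henc : enc k = maskOf ((h : Equiv.Perm GolayPt) • pts r) := by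
          rw [hke]; exact beq_iff_eq.1 (Golay.mem_supports_iff.1 hgo.1)
        refine ⟨k ^^^ m', Nat.xor_lt_two_pow (n := 12) hk h1, ?_, ?_⟩
        · rw [enc_xor, pts_xor, henc, pts_maskOf, h2]
          simp only [encAux, if_pos hm, pts_xor, Golay.smul_symmDiff]
        · rw [hFxor, ← h3, hke, ← hfF _ hgo, ← hfc h x hx _ hro]
          simp only [prodSel, if_pos hm]
          group
      · refine ⟨m', h1, ?_, ?_⟩
        · simp only [encAux, if_neg hm, Nat.zero_xor]; exact h2
        · simp only [prodSel, if_neg hm, one_mul]; exact h3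
  -- the obstruction vanishes
  have hc0 : F 4095 = 1 := by
    obtain ⟨m, hm, rfl⟩ := Golay.mem_supports_iff_exists.1 hD
    obtain ⟨m', hm', h2, h3⟩ := hconj g b hb m
    have hm'' : m' = m ^^^ 4095 := by
      refine enc_injOn hm' (Nat.xor_lt_two_pow (n := 12) hm (by norm_num)) ?_
      refine pts_injOn (enc_lt _) (enc_lt _) ?_
      rw [h2, hg, pts_enc_xor_top]
    have hcongr := Multiplier.commutator_congr hσ.2.1 (x := b) (x' := b) (y := a) (y' := F m) rfl
      (by rw [ha, hσF])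
    rw [commutatorElement_eq_one_iff_mul_comm.2 hab.symm, commutatorElement_def, h3, hm'', hFxor] at hcongr
    have hc : Commute (F m) (F 4095) := by rw [Commute, SemiconjBy, ← hFxor, ← hFxor, Nat.xor_comm]
    rwa [hc.eq, mul_inv_cancel_right, eq_comm] at hcongr
  have hone : ∀ m < 4096, σ (F m) = 1 → F m = 1 := by
    intro m hm h1
    rw [hσF] at h1
    have hsupp : pts (enc m) ∈ supports (golayCode : Set (GolayPt → ZMod 2)) :=
      Golay.mem_supports_iff_exists.2 ⟨m, hm, rfl⟩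
    rcases (eq_of_sE_mul_pE hsupp (g := 1) (by rw [h1, map_one, one_mul])).2 with e | e
    · rw [enc_injOn hm (by norm_num) (pts_injOn (enc_lt m) (enc_lt 0) (by rw [e, enc_zero, Golay.pts_zero])), hF0]
    · rw [enc_injOn hm (by norm_num) (pts_injOn (enc_lt m) (enc_lt 4095) (by rw [e, enc_top, pts_full])), hc0]
  obtain ⟨H, hH⟩ : ∃ H : Subgroup Γ, H = pE.range.comap σ := ⟨_, rfl⟩
  have hkerH : σ.ker ≤ H := fun z hz => by
    rw [hH, Subgroup.mem_comap, MonoidHom.mem_ker.1 hz]; exact one_mem _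
  -- the permutation part does not meet the kernel
  have hDker : ∀ z ∈ ⁅H, H⁆, z ∈ σ.ker → z = 1 := by
    intro z hz hzk
    by_contra hne
    have hle : σ.ker ≤ ⁅H, H⁆ := by
      intro w hw
      haveI : Fact (Nat.Prime 2) := ⟨Nat.prime_two⟩
      have htop := zpowers_eq_top_of_prime_card hK (g := (⟨z, hzk⟩ : σ.ker)) (by
        intro e; exact hne (congrArg Subtype.val e))
      obtain ⟨n, hn⟩ := Subgroup.mem_zpowers_iff.1 (htop ▸ Subgroup.mem_top (⟨w, hw⟩ : σ.ker))
      rw [← show z ^ n = w from congrArg Subtype.val hn]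
      exact zpow_mem hz n
    have hmap : ∀ h : H, σ h ∈ pE.range := fun h => (SetLike.ext_iff.1 hH (h : Γ)).1 h.2
    let τ : H →* ↥M24 := (MonoidHom.ofInjective pE_injective).symm.toMonoidHom.comp
      ((σ.comp H.subtype).codRestrict pE.range hmap)
    have hτk : ∀ h : H, h ∈ τ.ker ↔ (h : Γ) ∈ σ.ker := fun h => by
      rw [MonoidHom.mem_ker, MonoidHom.mem_ker, MonoidHom.comp_apply, MulEquiv.toMonoidHom_eq_coe,
        MonoidHom.coe_coe, MulEquiv.map_eq_one_iff, ← Subtype.coe_inj]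
      rfl
    have hstem : Cfsg.IsStemExtension τ := by
      refine ⟨?_, fun h hh => ?_, fun h hh => ?_⟩
      · intro u
        obtain ⟨x, hx⟩ := hσ.1 (pE u)
        refine ⟨⟨x, by rw [hH]; exact ⟨u, hx.symm⟩⟩, ?_⟩
        show (MonoidHom.ofInjective pE_injective).symm _ = u
        rw [MulEquiv.symm_apply_eq]
        exact Subtype.ext hx
      · rw [Subgroup.mem_center_iff]
        exact fun u => Subtype.ext (ker_comm hσ ((hτk h).1 hh) u)
      · have h1 := hle ((hτk h).1 hh)
        rw [← Subgroup.map_subtype_commutator] at h1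
        obtain ⟨u, hu, hue⟩ := h1
        rwa [← Subtype.ext hue]
    obtain ⟨π, hπ⟩ := Cfsg.Agent.S2038.result.2 H τ hstem
    obtain ⟨u, hu⟩ := hπ ⟨⟨z, hkerH hzk⟩, (hτk _).2 hzk⟩
    rw [Subsingleton.elim u 1, map_one] at hu
    exact hne (congrArg (fun v : τ.ker => ((v : H) : Γ)) hu).symm
  -- signs times the permutation part
  have hHconj : ∀ x ∈ H, ∀ m, ∃ m' < 4096, x * F m * x⁻¹ = F m' := by
    intro x hx m
    rw [hH] at hx
    obtain ⟨u, hu⟩ := hx
    obtain ⟨m', h1, -, h3⟩ := hconj u x hu.symm m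
    exact ⟨m', h1, h3⟩
  have hFinv : ∀ m, (F m)⁻¹ = F m := fun m =>
    inv_eq_of_mul_eq_one_right (by rw [← hFxor, Nat.xor_self, hF0])
  have hDH : ⁅H, H⁆ ≤ H := by
    rw [Subgroup.commutator_le]
    intro u hu v hv
    rw [commutatorElement_def]
    exact mul_mem (mul_mem (mul_mem hu hv) (inv_mem hu)) (inv_mem hv)
  obtain ⟨MD, hMD⟩ : ∃ MD : Subgroup Γ, ∀ x, x ∈ MD ↔ ∃ m < 4096, ∃ d ∈ ⁅H, H⁆, x = F m * d := by
    refine ⟨{ carrier := {x | ∃ m < 4096, ∃ d ∈ ⁅H, H⁆, x = F m * d}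
              one_mem' := ⟨0, by norm_num, 1, one_mem _, by rw [hF0, one_mul]⟩
              mul_mem' := ?_
              inv_mem' := ?_ }, fun _ => Iff.rfl⟩
    · rintro _ _ ⟨m, hm, d, hd, rfl⟩ ⟨n, hn, e, he, rfl⟩
      obtain ⟨n', hn', h⟩ := hHconj d (hDH hd) n
      refine ⟨m ^^^ n', Nat.xor_lt_two_pow (n := 12) hm hn', d * e, mul_mem hd he, ?_⟩
      rw [hFxor, ← h]; group
    · rintro _ ⟨m, hm, d, hd, rfl⟩
      obtain ⟨m', hm', h⟩ := hHconj d⁻¹ (inv_mem (hDH hd)) m
      refine ⟨m', hm', d⁻¹, inv_mem hd, ?_⟩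
      rw [← h, mul_inv_rev, hFinv]; group
  obtain ⟨S, hS⟩ : ∃ S : Set Γ, S = {x | ∃ o ∈ octads, x = f o} ∪ (H : Set Γ) := ⟨_, rfl⟩
  have hgen : ∀ s ∈ S, ∀ t ∈ S, ⁅s, t⁆ ∈ MD := by
    have hmix : ∀ o ∈ octads, ∀ h ∈ H, ⁅f o, h⁆ ∈ MD := by
      intro o ho h hh
      rw [hfF o ho]
      obtain ⟨m', hm', e⟩ := hHconj h hh (maskOf o % 4096)
      refine (hMD _).2 ⟨maskOf o % 4096 ^^^ m', Nat.xor_lt_two_pow (n := 12) (Nat.mod_lt _ (by norm_num)) hm',
        1, one_mem _, ?_⟩
      rw [hFxor, mul_one, ← e, commutatorElement_def, hFinv]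
      group
    rw [hS]
    rintro s (⟨o, ho, rfl⟩ | hs) t (⟨o', ho', rfl⟩ | ht)
    · rw [commutatorElement_eq_one_iff_commute.2 (hcomm o ho o' ho')]; exact one_mem _
    · exact hmix o ho t ht
    · rw [← commutatorElement_inv]; exact inv_mem (hmix o' ho' s hs)
    · exact (hMD _).2 ⟨0, by norm_num, _, Subgroup.commutator_mem_commutator hs ht, by rw [hF0, one_mul]⟩
  have hnorm : ∀ s ∈ S, ∀ x ∈ MD, s * x * s⁻¹ ∈ MD := by
    intro s hs x hx
    obtain ⟨m, hm, d, hd, rfl⟩ := (hMD x).1 hx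
    rw [hS] at hs
    rcases hs with ⟨o, ho, rfl⟩ | hs
    · rw [hfF o ho]
      obtain ⟨m', hm', e⟩ := hHconj d (hDH hd) (maskOf o % 4096)
      refine (hMD _).2 ⟨maskOf o % 4096 ^^^ m ^^^ m', Nat.xor_lt_two_pow (n := 12)
        (Nat.xor_lt_two_pow (n := 12) (Nat.mod_lt _ (by norm_num)) hm) hm', d, hd, ?_⟩
      rw [hFxor, hFxor, ← e, hFinv]
      group
    · obtain ⟨m', hm', e⟩ := hHconj s hs m
      refine (hMD _).2 ⟨m', hm', ⁅s, d⁆ * d, mul_mem (Subgroup.commutator_mem_commutator hs (hDH hd)) hd, ?_⟩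
      rw [← e, commutatorElement_def]
      group
  -- the monomial group is covered
  have hQS : stdStab.map (QuotientGroup.mk' (Subgroup.center Co0)) ≤ (Subgroup.closure S).map σ := by
    rintro _ ⟨k, hk, rfl⟩
    obtain ⟨π, hπ, c, hc, rfl⟩ := exists_mono_of_mem hk
    obtain ⟨x, hx⟩ := hσ.1 (pE ⟨π, hπ⟩)
    obtain ⟨m, hm, hmc⟩ := Golay.mem_supports_iff_exists.1 hc
    refine ⟨F m * x, mul_mem ?_ (Subgroup.subset_closure ?_), ?_⟩
    · rw [hF]
      exact prodSel_mem rows (fun r hr => Subgroup.subset_closure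
        (by rw [hS]; exact Or.inl ⟨_, rows_octads r hr, rfl⟩)) m
    · rw [hS]; right; rw [hH]; exact ⟨_, hx.symm⟩
    · rw [map_mul, hσF, hx, hmc, sE_eq hc, mono_eq_signEl_mul]
      rfl
  have hodd : ¬ 2 ∣ (stdStab.map (QuotientGroup.mk' (Subgroup.center Co0))).index := by
    have hle : (QuotientGroup.mk' (Subgroup.center Co0)).ker ≤ stdStab := by
      rw [QuotientGroup.ker_mk']
      intro z hz
      rcases center_eq hz with rfl | rfl
      · exact one_mem _
      · rw [negOne_eq_mono]; exact mono_mem_stdStab _ _ _ _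
    rw [Subgroup.index_map_eq _ (QuotientGroup.mk'_surjective _) hle]
    have h := stdStab.card_mul_index
    rw [natCard_stdStab, card_co0] at h
    omega
  have hkerS : (σ.ker : Set Γ) ⊆ S := fun z hz => by rw [hS]; exact Or.inr (hkerH hz)
  have hle := (Multiplier.ker_le_commutator_closure hσ Nat.prime_two hK S hkerS _ hQS hodd).trans
    (Multiplier.commutator_closure_le S MD hgen hnorm)
  -- the kernel is trivial
  have hbot : σ.ker = ⊥ := by
    rw [Subgroup.eq_bot_iff_forall]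
    intro z hz
    obtain ⟨m, hm, d, hd, rfl⟩ := (hMD z).1 (hle hz)
    have hdr := hDH hd
    rw [hH] at hdr
    obtain ⟨u, hu⟩ := hdr
    rw [MonoidHom.mem_ker, map_mul, hσF, ← hu] at hz
    obtain ⟨rfl, -⟩ := eq_of_sE_mul_pE (Golay.mem_supports_iff_exists.2 ⟨m, hm, rfl⟩) hz
    rw [map_one] at hu hz
    rw [hDker d hd (MonoidHom.mem_ker.2 hu.symm), mul_one]
    exact hone m hm (by rw [hσF, ← mul_one (sE _), hz])
  rw [hbot, Subgroup.card_bot] at hK
  norm_num at hK

end

end Cfsg.Agent.MultiplierCoOne
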