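/-
The multiplier of Co₁ has order two.

Main results (namespace `Cfsg.Agent.MultiplierCoOne`): `multiplier_co1`.
-/
import Cfsg.Agent.Lib.MultiplierCoOne.OddChecks
import Cfsg.Agent.Lib.MultiplierCoOne.TwoPart
import Cfsg.Agent.Lib.Multiplier.PrimeQuotient
import Cfsg.Agent.Lib.Golay.Dodecad

set_option autoImplicit false
set_option maxRecDepth 100000

open scoped Pointwise symmDiff
open Cfsg

namespace Cfsg.Agent.MultiplierCoOne

open Cfsg.Agent.Golay Cfsg.Agent.Leech

/-- No kernel of odd prime order. -/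
theorem not_stem_odd {Γ : Type} [Group Γ] [Finite Γ] (σ : Γ →* Spor.Co1) (hσ : Cfsg.IsStemExtension σ)
    {p : ℕ} (hp : p.Prime) (h2 : p ≠ 2) : Nat.card σ.ker ≠ p := by
  by_cases h3 : p = 3
  · subst h3; exact not_stem_three σ hσ
  by_cases h5 : p = 5
  · subst h5; exact not_stem_five σ hσ
  by_cases h7 : p = 7
  · subst h7; exact not_stem_seven σ hσ
  haveI : Finite Spor.Co1 := Nat.finite_of_card_ne_zero (by rw [natCard_co1]; norm_num)
  refine Multiplier.not_stem_of_not_sq_dvd hσ hp fun hd => ?_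
  rw [natCard_co1, show (4157776806543360000 : ℕ) = 2 ^ 21 * 3 ^ 9 * 5 ^ 4 * 7 ^ 2 * (11 * 13 * 23) by norm_num] at hd
  have hcop : ∀ q k : ℕ, q.Prime → p ≠ q → (p ^ 2).Coprime (q ^ k) := fun q k hq hne =>
    ((Nat.coprime_primes hp hq).2 hne).pow 2 k
  have hd' := (((hcop 2 21 Nat.prime_two h2).mul_right (hcop 3 9 Nat.prime_three h3)).mul_right
    (hcop 5 4 Nat.prime_five h5)).mul_right (hcop 7 2 (by norm_num) h7) |>.dvd_of_dvd_mul_left hd
  have hb : p ^ 2 ≤ 3289 := Nat.le_of_dvd (by norm_num) (by simpa using hd')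
  have hp58 : p < 58 := by nlinarith
  interval_cases p <;> first | omega | exact absurd hp (by norm_num) | (revert hd'; norm_num)

/-- The multiplier of Co₁ is cyclic of order two. -/
theorem multiplier_co1 : Cfsg.HasCyclicSchurMultiplier Spor.Co1 2 := by
  haveI : Finite Co0 := Nat.finite_of_card_ne_zero (by rw [card_co0]; norm_num)
  have hsupp := dodecad0_mem.1
  obtain ⟨g, hg, hgD⟩ := exists_map_dodecad dodecad0_mem (compl_mem_dodecads dodecad0_mem)
  refine Multiplier.hasCyclicSchurMultiplier_two_of_pair (x := sE (pts dodecad0)) (y := pE ⟨g, hg⟩)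
    (sE_mul_self hsupp) ?_ ?_ ?_
  · have h := pE_conj ⟨g, hg⟩ hsupp
    rw [show ((⟨g, hg⟩ : M24) : Equiv.Perm GolayPt) • pts dodecad0 = (pts dodecad0)ᶜ from hgD,
      mul_inv_eq_iff_eq_mul] at h
    have e : sE (pts dodecad0)ᶜ = sE (pts dodecad0) := by
      conv_rhs => rw [← mul_one (sE (pts dodecad0)), ← sE_univ, sE_mul hsupp Golay.univ_mem]
      congr 1
    rw [h, e]
  · refine ⟨Co0, inferInstance, inferInstance, QuotientGroup.mk' (Subgroup.center Co0),
      ⟨QuotientGroup.mk'_surjective _, ?_, ?_⟩, ?_⟩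
    · rw [QuotientGroup.ker_mk']
    · rw [commutator_co0]; exact le_top
    · rw [QuotientGroup.ker_mk', natCard_center]
  · intro Γ _ _ σ hσ hp a b ha hb
    by_cases h2 : Nat.card σ.ker = 2
    · exact lifts_not_commute hσ h2 hsupp (g := ⟨g, hg⟩) hgD ha hb
    · exact absurd rfl (not_stem_odd σ hσ hp h2)

end Cfsg.Agent.MultiplierCoOne
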